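import Cfsg.Agent.Lib.Lie.RankOneClass.ModelDefs
import Cfsg.Agent.Lib.Perm.RankOne.UnitalModel
import Cfsg.Agent.Lib.PGroups.Suzuki.Unitary

/-!
The group of the root elements and the swap on the points of the unital is `PSU₃(2ⁿ)`.
-/

set_option autoImplicit false
set_option linter.all false

namespace CfsgLib.Lie.RankOneClass.Model

open CfsgLib.Perm.RankOne.Unital CfsgLib.Classical.Herm

section

variable {L : Type*} [Field L] [Fintype L] [CharP L 2] {q : ℕ} (hL : Fintype.card L = q ^ 2)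
include hL

theorem isRoot_iff (x : HPt L q) (σ : Equiv.Perm (Point L q)) :
    IsRoot x σ ↔ σ = transPerm hL x := by
  constructor
  · rintro ⟨h0, h⟩
    ext1 p
    rcases p with _ | y
    · exact h0
    · obtain ⟨z, hz, hzv⟩ := h y
      rw [hz]
      exact congrArg some (Subtype.ext hzv)
  · rintro rfl
    exact ⟨rfl, fun y => ⟨transFun hL x y, rfl, rfl⟩⟩

theorem isSwap_iff (σ : Equiv.Perm (Point L q)) : IsSwap σ ↔ σ = swapPerm hL := by
  constructor
  · rintro ⟨h0, h1⟩
    ext1 p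
    rcases p with _ | y
    · exact (h0 (zeroPt hL) rfl).2
    · by_cases hy : y.1.1 = 0
      · exact (h0 y hy).1.trans (swapFun_zero hL hy).symm
      · obtain ⟨z, hz, hzv⟩ := h1 y hy
        obtain ⟨r, hr, e⟩ := swapFun_some hL hy
        rw [hz, swapPerm_apply, e]
        refine congrArg some (Subtype.ext ?_)
        rw [hzv, hr, one_div]
  · rintro rfl
    refine ⟨fun y hy => ⟨swapFun_zero hL hy, ?_⟩, fun y hy => ?_⟩
    · show some (zeroPt hL) = some y
      rw [eq_zeroPt hL hy]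
    · obtain ⟨r, hr, e⟩ := swapFun_some hL hy
      exact ⟨r, e, by rw [hr, one_div]⟩

theorem rootGroup_eq : rootGroup L q = modelGroup hL := by
  rw [rootGroup, modelGroup]
  congr 1
  ext σ
  simp only [Set.mem_union, Set.mem_setOf_eq, Set.mem_range, Set.mem_singleton_iff]
  refine or_congr (exists_congr fun x => ?_) (isSwap_iff hL σ)
  rw [isRoot_iff hL, eq_comm]

end

variable {L : Type*} [Field L] [Fintype L] {n : ℕ}

/-- Every root element is realised by a permutation. -/
theorem exists_isRoot (hn : 1 ≤ n) (hL : Fintype.card L = (2 ^ n) ^ 2) (x : HPt L (2 ^ n)) :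
    ∃ σ : Equiv.Perm (Point L (2 ^ n)), IsRoot x σ := by
  haveI : CharP L 2 := CfsgLib.PGroups.Suzuki.Unitary.charP_two hn hL
  exact ⟨transPerm hL x, (isRoot_iff hL x _).2 rfl⟩

/-- The swap is realised by a permutation. -/
theorem exists_isSwap (hn : 1 ≤ n) (hL : Fintype.card L = (2 ^ n) ^ 2) :
    ∃ σ : Equiv.Perm (Point L (2 ^ n)), IsSwap σ := by
  haveI : CharP L 2 := CfsgLib.PGroups.Suzuki.Unitary.charP_two hn hL
  exact ⟨swapPerm hL, (isSwap_iff hL _).2 rfl⟩

/-- There are `q ^ 3 + 1` points. -/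
theorem card_point (hn : 1 ≤ n) (hL : Fintype.card L = (2 ^ n) ^ 2) :
    Nat.card (Point L (2 ^ n)) = (2 ^ n) ^ 3 + 1 := by
  haveI : CharP L 2 := CfsgLib.PGroups.Suzuki.Unitary.charP_two hn hL
  rw [Finite.card_option]
  congr 1
  have hq : Nat.card (fixedSub (powHom hL)) = 2 ^ n := card_fixed_powHom hL
  rw [← CfsgLib.PGroups.Suzuki.Unitary.card_pts (powHom_isInvol hL) hq
    (by rw [Nat.card_eq_fintype_card, hL])]
  refine Nat.card_congr
    { toFun := fun p => ⟨(p.1.2, p.1.1), ?_⟩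
      invFun := fun p => ⟨(p.1.2, p.1.1), ?_⟩
      left_inv := fun p => rfl
      right_inv := fun p => rfl }
  · have hp := p.2
    rw [pow_succ] at hp
    show p.1.1 + powHom hL p.1.1 = powHom hL p.1.2 * p.1.2
    rw [powHom_apply, powHom_apply]
    linear_combination hp - (p.1.2 ^ (2 ^ n) * p.1.2) * two_eq_zero (F := L)
  · have hp : p.1.2 + powHom hL p.1.2 = powHom hL p.1.1 * p.1.1 := p.2
    rw [powHom_apply, powHom_apply] at hp
    show p.1.2 + p.1.2 ^ (2 ^ n) + p.1.1 ^ (2 ^ n + 1) = 0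
    rw [pow_succ]
    linear_combination hp + (p.1.1 ^ (2 ^ n) * p.1.1) * two_eq_zero (F := L)

/-- **The unital group is `PSU₃(2ⁿ)`, a simple group.** -/
theorem rootGroup_iso {L : Type} [Field L] [Fintype L] {n : ℕ} (hn : 2 ≤ n)
    (hL : Fintype.card L = (2 ^ n) ^ 2) :
    Nonempty (rootGroup L (2 ^ n) ≃* Cfsg.PSU 3 L (2 ^ n)) ∧
      IsSimpleGroup (rootGroup L (2 ^ n)) := by
  haveI : CharP L 2 := CfsgLib.PGroups.Suzuki.Unitary.charP_two (by omega) hL
  have hq : 2 ^ n ≠ 2 := by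
    intro h
    have := Nat.pow_right_injective le_rfl (h.trans (pow_one 2).symm)
    omega
  rw [rootGroup_eq hL]
  exact ⟨nonempty_modelGroup_equiv hL hq, isSimpleGroup_modelGroup hL hq⟩

end CfsgLib.Lie.RankOneClass.Model
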